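import Groth.Agent.Lib.BlowUp.FlatSub
import Mathlib.RingTheory.TensorProduct.Maps
import Mathlib.RingTheory.Flat.Tensor
import Mathlib.RingTheory.LocalRing.RingHom.Basic
import Mathlib.Algebra.Category.ModuleCat.Basic

/-!
Base change of the graded pieces of the ideal of a retraction, when they are flat: the algebra at a point.
-/

set_option autoImplicit false
set_option linter.all false
universe u

open TensorProduct

noncomputable section

namespace GrothLib.GrFlat29

variable {A O : Type u} [CommRing A] [CommRing O] (ρ : A →+* O) (ζ : O →+* A)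

/-- The comparison from a graded piece to a thickening. -/
theorem exists_piece (hρζ : ∀ c, ζ (ρ c) = c) (I : Ideal O) (hI : I = RingHom.ker ζ) (k : ℕ)
    {N : Type u} [AddCommGroup N] [Module O N] (j : N →ₗ[O] O) (hj : Function.Injective j)
    (hjr : LinearMap.range j = I ^ k) :
    letI := ζ.toAlgebra
    letI := ((Ideal.Quotient.mk (I ^ (k + 1))).comp ρ).toAlgebra
    ∃ ι₀ : A ⊗[O] N →ₗ[A] O ⧸ I ^ (k + 1), Function.Injective ι₀ ∧
      (∀ c m, ι₀ (c ⊗ₜ m) = Ideal.Quotient.mk _ (ρ c * j m)) ∧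
      ∀ b : O, b ∈ I ^ k → ∃ y, ι₀ y = Ideal.Quotient.mk _ b := by
  letI := ζ.toAlgebra
  letI := ((Ideal.Quotient.mk (I ^ (k + 1))).comp ρ).toAlgebra
  have hmem : ∀ m, j m ∈ I ^ k := fun m => hjr ▸ (⟨m, rfl⟩ : j m ∈ LinearMap.range j)
  let h : A →+ N →+ O ⧸ I ^ (k + 1) :=
    AddMonoidHom.mk' (fun c => AddMonoidHom.mk' (fun m => Ideal.Quotient.mk _ (ρ c * j m))
      fun x y => by simp [mul_add]) fun c d => by ext m; simp [add_mul]
  have hh : ∀ (b : O) (c : A) (m : N), h (b • c) m = h c (b • m) := fun b c m => by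
    show Ideal.Quotient.mk _ (ρ (ζ b * c) * j m) = Ideal.Quotient.mk _ (ρ c * j (b • m))
    rw [Ideal.Quotient.eq, map_smul, smul_eq_mul, map_mul,
      show ρ (ζ b) * ρ c * j m - ρ c * (b * j m) = ρ c * ((ρ (ζ b) - b) * j m) by ring]
    refine Ideal.mul_mem_left _ _ ?_
    rw [pow_succ']
    refine Ideal.mul_mem_mul ?_ (hmem m)
    rw [hI, RingHom.mem_ker, map_sub, hρζ, sub_self]
  let f := TensorProduct.liftAddHom h hh
  have hf : ∀ c m, f (c ⊗ₜ m) = Ideal.Quotient.mk _ (ρ c * j m) := fun c m => rfl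
  let ι₀ : A ⊗[O] N →ₗ[A] O ⧸ I ^ (k + 1) :=
    { toFun := f
      map_add' := map_add f
      map_smul' := fun d y => by
        induction y using TensorProduct.induction_on with
        | zero => simp
        | add y z hy hz => rw [smul_add, map_add, map_add, hy, hz, smul_add]
        | tmul c m =>
          rw [TensorProduct.smul_tmul', hf, hf, RingHom.id_apply, smul_eq_mul, map_mul, Algebra.smul_def]
          show _ = Ideal.Quotient.mk _ (ρ d) * _
          simp only [map_mul, mul_assoc] }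
  have hsurj : ∀ y : A ⊗[O] N, ∃ m, y = 1 ⊗ₜ m := fun y => by
    induction y using TensorProduct.induction_on with
    | zero => exact ⟨0, (TensorProduct.tmul_zero _ _).symm⟩
    | add y z hy hz =>
      obtain ⟨m, rfl⟩ := hy
      obtain ⟨m', rfl⟩ := hz
      exact ⟨m + m', (TensorProduct.tmul_add _ _ _).symm⟩
    | tmul c m =>
      refine ⟨ρ c • m, ?_⟩
      rw [← TensorProduct.smul_tmul]
      congr 1
      show c = ζ (ρ c) * 1
      rw [hρζ, mul_one]
  refine ⟨ι₀, (injective_iff_map_eq_zero ι₀).2 fun y hy => ?_, fun c m => hf c m, fun b hb => ?_⟩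
  · obtain ⟨m, rfl⟩ := hsurj y
    have h0 : Ideal.Quotient.mk (I ^ (k + 1)) (j m) = 0 := by
      rw [← one_mul (j m), ← map_one ρ]
      exact (hf 1 m).symm.trans hy
    have hm' : j m ∈ Submodule.map j (I • (⊤ : Submodule O N)) := by
      rw [Submodule.map_smul'', Submodule.map_top, hjr, smul_eq_mul, ← pow_succ']
      exact Ideal.Quotient.eq_zero_iff_mem.1 h0
    obtain ⟨m', hm', hmm⟩ := hm'
    obtain rfl := hj hmm
    refine Submodule.smul_induction_on hm' (fun i hi x _ => ?_) fun x y hx hy => by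
      rw [TensorProduct.tmul_add, hx, hy, add_zero]
    rw [← TensorProduct.smul_tmul]
    have : i • (1 : A) = 0 := by
      show ζ i * 1 = 0
      rw [show ζ i = 0 from RingHom.mem_ker.1 (hI ▸ hi), zero_mul]
    rw [this, TensorProduct.zero_tmul]
  · rw [← hjr] at hb
    obtain ⟨m, rfl⟩ := hb
    exact ⟨1 ⊗ₜ m, (hf 1 m).trans (by rw [map_one, one_mul])⟩

/-- Thickenings are flat when the graded pieces are. -/
theorem flat_quotient (hρζ : ∀ c, ζ (ρ c) = c) (I : Ideal O) (hI : I = RingHom.ker ζ)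
    (N : ℕ → ModuleCat.{u} O) (j : ∀ k, N k →ₗ[O] O) (hj : ∀ k, Function.Injective (j k))
    (hjr : ∀ k, LinearMap.range (j k) = I ^ k) : ∀ (n : ℕ),
    (∀ k < n, letI := ζ.toAlgebra; Module.Flat A (A ⊗[O] N k)) →
      letI := ((Ideal.Quotient.mk (I ^ n)).comp ρ).toAlgebra
      Module.Flat A (O ⧸ I ^ n) := by
  letI := ζ.toAlgebra
  intro n
  induction n with
  | zero =>
    intro _
    letI := ((Ideal.Quotient.mk (I ^ 0)).comp ρ).toAlgebra
    haveI : Subsingleton (O ⧸ I ^ 0) := by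
      rw [Ideal.Quotient.subsingleton_iff, pow_zero, Ideal.one_eq_top]
    infer_instance
  | succ n ih =>
    intro hflat
    letI := ((Ideal.Quotient.mk (I ^ (n + 1))).comp ρ).toAlgebra
    letI := ((Ideal.Quotient.mk (I ^ n)).comp ρ).toAlgebra
    haveI := ih fun k hk => hflat k (Nat.lt_succ_of_lt hk)
    haveI := hflat n (Nat.lt_succ_self n)
    obtain ⟨ι₀, hinj, hι₀, himg⟩ := exists_piece ρ ζ hρζ I hI n (j n) (hj n) (hjr n)
    let p : O ⧸ I ^ (n + 1) →ₐ[A] O ⧸ I ^ n :=
      { Ideal.Quotient.factor (Ideal.pow_le_pow_right (Nat.le_succ n)) with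
        commutes' := fun c => rfl }
    refine BlowUp.flat_of_exact ι₀ hinj p.toLinearMap
      (Ideal.Quotient.factor_surjective (Ideal.pow_le_pow_right (Nat.le_succ n))) fun x => ?_
    obtain ⟨x, rfl⟩ := Ideal.Quotient.mk_surjective x
    constructor
    · intro hx
      exact himg x (Ideal.Quotient.eq_zero_iff_mem.1 hx)
    · rintro ⟨y, hy⟩
      rw [← hy]
      clear hy
      induction y using TensorProduct.induction_on with
      | zero => rw [map_zero, map_zero]
      | add y z hy hz => rw [map_add, map_add, hy, hz, add_zero]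
      | tmul c m =>
        rw [hι₀]
        show Ideal.Quotient.mk (I ^ n) (ρ c * j n m) = 0
        exact Ideal.Quotient.eq_zero_iff_mem.2 (Ideal.mul_mem_left _ _ (hjr n ▸ ⟨m, rfl⟩))

variable {O' a : Type u} [CommRing O'] [CommRing a] [IsLocalRing a] (γ : A →+* a) (φ : O →+* O') (π : O' →+* a)

/-- The algebra of base change of a flat graded piece along a retraction. -/
theorem bijective_baseChange_pow (hρζ : ∀ c, ζ (ρ c) = c) (hπφ : ∀ b, π (φ b) = γ (ζ b))
    (I : Ideal O) (hI : I = RingHom.ker ζ) (n : ℕ) (N : ℕ → ModuleCat.{u} O) (j : ∀ k, N k →ₗ[O] O)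
    (hj : ∀ k, Function.Injective (j k)) (hjr : ∀ k, LinearMap.range (j k) = I ^ k)
    (hflat : ∀ k < n, letI := ζ.toAlgebra; Module.Flat A (A ⊗[O] N k))
    {N' : Type u} [AddCommGroup N'] [Module O' N'] (j' : N' →ₗ[O'] O') (hj' : Function.Injective j')
    (hj'r : LinearMap.range j' = Ideal.map φ (LinearMap.range (j n)))
    (v : O') (hv : IsUnit v)
    (hlift : ∀ (R : Type u) [CommRing R] [IsLocalRing R] (fc : O →+* R) (inl : a →+* R) (e : R →+* a),
      IsLocalHom e → (∀ b, e (fc b) = γ (ζ b)) → (∀ c, e (inl c) = c) → (∀ c, fc (ρ c) = inl (γ c)) →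
        ∃ F : O' →+* R, (∀ b, F (φ b) = fc b) ∧ ∀ x, e (F x) = π x) :
    letI := φ.toAlgebra
    letI := π.toAlgebra
    ∀ (T : O' ⊗[O] N n →ₗ[O'] N'), (∀ m, j' (T (1 ⊗ₜ m)) = v * φ (j n m)) →
      Function.Bijective (LinearMap.baseChange a T) := by
  letI := φ.toAlgebra
  letI := π.toAlgebra
  letI := ζ.toAlgebra
  letI : Algebra A (O ⧸ I ^ (n + 1)) := ((Ideal.Quotient.mk (I ^ (n + 1))).comp ρ).toAlgebra
  letI : Algebra A (O ⧸ I ^ n) := ((Ideal.Quotient.mk (I ^ n)).comp ρ).toAlgebra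
  letI := γ.toAlgebra
  intro T hT
  obtain ⟨v, rfl⟩ := hv
  have hTs : Function.Surjective T := by
    intro n'
    have hmem : (↑v⁻¹ : O') * j' n' ∈ Ideal.map φ (LinearMap.range (j n)) := by
      refine Ideal.mul_mem_left _ _ ?_
      rw [← hj'r]
      exact ⟨n', rfl⟩
    suffices h : ∀ y ∈ Ideal.map φ (LinearMap.range (j n)), ∃ t, j' (T t) = v * y by
      obtain ⟨t, ht⟩ := h _ hmem
      exact ⟨t, hj' (ht.trans (by rw [← mul_assoc, Units.mul_inv, one_mul]))⟩
    intro y hy
    refine Submodule.span_induction ?_ ⟨0, by simp⟩ ?_ ?_ hy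
    · rintro _ ⟨b, ⟨m, rfl⟩, rfl⟩
      exact ⟨1 ⊗ₜ m, hT m⟩
    · rintro y z - - ⟨t, ht⟩ ⟨t', ht'⟩
      exact ⟨t + t', by rw [map_add, map_add, ht, ht', mul_add]⟩
    · rintro r y - ⟨t, ht⟩
      exact ⟨r • t, by rw [map_smul, map_smul, ht, smul_eq_mul, smul_eq_mul]; ring⟩
  refine ⟨?_, LinearMap.lTensor_surjective a hTs⟩
  haveI := flat_quotient ρ ζ hρζ I hI N j hj hjr n hflat
  obtain ⟨ι₀, hinj, hι₀, himg⟩ := exists_piece ρ ζ hρζ I hI n (j n) (hj n) (hjr n)
  let R := a ⊗[A] (O ⧸ I ^ (n + 1))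
  let p : O ⧸ I ^ (n + 1) →ₐ[A] O ⧸ I ^ n :=
    { Ideal.Quotient.factor (Ideal.pow_le_pow_right (Nat.le_succ n)) with
      commutes' := fun c => rfl }
  let ι : a ⊗[A] (A ⊗[O] N n) →ₗ[A] R := ι₀.lTensor a
  have hexact : Function.Exact ι₀ p.toLinearMap := fun x => by
    obtain ⟨x, rfl⟩ := Ideal.Quotient.mk_surjective x
    constructor
    · intro hx
      exact himg x (Ideal.Quotient.eq_zero_iff_mem.1 hx)
    · rintro ⟨y, hy⟩
      rw [← hy]
      clear hy
      induction y using TensorProduct.induction_on with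
      | zero => rw [map_zero, map_zero]
      | add y z hy hz => rw [map_add, map_add, hy, hz, add_zero]
      | tmul c m =>
        rw [hι₀]
        show Ideal.Quotient.mk (I ^ n) (ρ c * j n m) = 0
        exact Ideal.Quotient.eq_zero_iff_mem.2 (Ideal.mul_mem_left _ _ (hjr n ▸ ⟨m, rfl⟩))
  have hι : Function.Injective ι :=
    LinearMap.lTensor_injective_of_exact_of_flat p.toLinearMap
      (Ideal.Quotient.factor_surjective (Ideal.pow_le_pow_right (Nat.le_succ n))) ι₀ hinj hexact a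
  have hζker : ∀ x ∈ I ^ (n + 1), ζ x = 0 := fun x hx => by
    have : x ∈ I := Ideal.pow_le_self (Nat.succ_ne_zero n) hx
    rwa [hI, RingHom.mem_ker] at this
  let ζb : O ⧸ I ^ (n + 1) →ₐ[A] a :=
    { Ideal.Quotient.lift (I ^ (n + 1)) (γ.comp ζ) (fun x hx => by
        rw [RingHom.comp_apply, hζker x hx, map_zero]) with
      commutes' := fun c => by
        show γ (ζ (ρ c)) = γ c
        rw [hρζ] }
  let e : R →ₐ[A] a := Algebra.TensorProduct.lift (AlgHom.id A a) ζb fun _ _ => Commute.all _ _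
  let inl : a →+* R := (Algebra.TensorProduct.includeLeft : a →ₐ[A] R).toRingHom
  let inr : (O ⧸ I ^ (n + 1)) →ₐ[A] R := Algebra.TensorProduct.includeRight
  let fc : O →+* R := inr.toRingHom.comp (Ideal.Quotient.mk (I ^ (n + 1)))
  have he1 : ∀ c, e (inl c) = c := fun c => by
    show e (c ⊗ₜ[A] (1 : O ⧸ I ^ (n + 1))) = c
    rw [Algebra.TensorProduct.lift_tmul, map_one, mul_one]
    rfl
  have he2 : ∀ b, e (fc b) = γ (ζ b) := fun b => by
    show e ((1 : a) ⊗ₜ[A] Ideal.Quotient.mk (I ^ (n + 1)) b) = _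
    rw [Algebra.TensorProduct.lift_tmul, map_one, one_mul]
    rfl
  have hnil : ∀ r : R, IsNilpotent (r - inl (e r)) := fun r => by
    induction r using TensorProduct.induction_on with
    | zero => exact ⟨1, by simp⟩
    | add x y hx hy =>
      rw [map_add, map_add, show x + y - (inl (e x) + inl (e y)) = (x - inl (e x)) + (y - inl (e y)) by ring]
      exact Commute.isNilpotent_add (Commute.all _ _) hx hy
    | tmul c o =>
      obtain ⟨b, rfl⟩ := Ideal.Quotient.mk_surjective o
      refine ⟨n + 1, ?_⟩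
      have h1 : c ⊗ₜ[A] Ideal.Quotient.mk (I ^ (n + 1)) b - inl (e (c ⊗ₜ[A] Ideal.Quotient.mk (I ^ (n + 1)) b)) =
          c ⊗ₜ[A] Ideal.Quotient.mk (I ^ (n + 1)) (b - ρ (ζ b)) := by
        rw [map_sub, TensorProduct.tmul_sub, Algebra.TensorProduct.lift_tmul]
        congr 1
        show (c * γ (ζ b)) ⊗ₜ[A] (1 : O ⧸ I ^ (n + 1)) = c ⊗ₜ[A] (algebraMap A (O ⧸ I ^ (n + 1)) (ζ b))
        rw [Algebra.algebraMap_eq_smul_one, ← TensorProduct.smul_tmul, Algebra.smul_def, mul_comm]
        rfl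
      rw [h1, Algebra.TensorProduct.tmul_pow, ← map_pow, Ideal.Quotient.eq_zero_iff_mem.2, TensorProduct.tmul_zero]
      exact Ideal.pow_mem_pow (by rw [hI, RingHom.mem_ker, map_sub, hρζ, sub_self]) _
  have hunit : ∀ r : R, IsUnit (e r) → IsUnit r := fun r hr => by
    rw [show r = inl (e r) + (r - inl (e r)) by ring]
    exact IsNilpotent.isUnit_add_left_of_commute (hnil r) (hr.map inl) (Commute.all _ _)
  haveI : Nontrivial R := e.toRingHom.domain_nontrivial
  haveI : IsLocalRing R := IsLocalRing.of_isUnit_or_isUnit_one_sub_self fun r => by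
    rcases IsLocalRing.isUnit_or_isUnit_one_sub_self (e r) with h | h
    · exact Or.inl (hunit _ h)
    · exact Or.inr (hunit _ (by rwa [map_sub, map_one]))
  have hfρ : ∀ c, fc (ρ c) = inl (γ c) := fun c =>
    (AlgHom.commutes inr c).trans ((Algebra.TensorProduct.includeLeft : a →ₐ[A] R).commutes c).symm
  obtain ⟨F, hFφ, hFe⟩ := hlift R fc inl e.toRingHom ⟨hunit⟩ he2 he1 hfρ
  -- multiplication on the image of the graded piece
  have hmul : ∀ (r : R) (y : a ⊗[A] (A ⊗[O] N n)), r * ι y = ι (e r • y) := by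
    intro r y
    induction y using TensorProduct.induction_on with
    | zero => simp
    | add y z hy hz => rw [map_add, mul_add, hy, hz, smul_add, map_add]
    | tmul c g =>
      induction r using TensorProduct.induction_on with
      | zero => simp
      | add r r' hr hr' => rw [add_mul, hr, hr', map_add, add_smul, map_add]
      | tmul d o =>
        obtain ⟨b, rfl⟩ := Ideal.Quotient.mk_surjective o
        show (d ⊗ₜ[A] Ideal.Quotient.mk _ b) * (c ⊗ₜ[A] ι₀ g) = _
        have hbg : Ideal.Quotient.mk (I ^ (n + 1)) b * ι₀ g = (ζ b) • ι₀ g := by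
          clear hexact
          induction g using TensorProduct.induction_on with
          | zero => simp
          | add g h hg hh => rw [map_add, mul_add, hg, hh, smul_add]
          | tmul x m =>
            rw [hι₀, Algebra.smul_def]
            show _ = Ideal.Quotient.mk _ (ρ (ζ b)) * _
            rw [← map_mul, ← map_mul, Ideal.Quotient.eq,
              show b * (ρ x * j n m) - ρ (ζ b) * (ρ x * j n m) = ρ x * ((b - ρ (ζ b)) * j n m) by ring, pow_succ']
            exact Ideal.mul_mem_left _ _ (Ideal.mul_mem_mul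
              (by rw [hI, RingHom.mem_ker, map_sub, hρζ, sub_self]) (hjr n ▸ ⟨m, rfl⟩))
        rw [Algebra.TensorProduct.tmul_mul_tmul, hbg, ← TensorProduct.smul_tmul, Algebra.smul_def,
          Algebra.TensorProduct.lift_tmul]
        show _ = ι ((d * γ (ζ b) * c) ⊗ₜ[A] g)
        rw [show γ (ζ b) = algebraMap A a (ζ b) from rfl, mul_comm d (algebraMap A a (ζ b)), mul_assoc]
        rfl
  let Q := a ⊗[O'] (O' ⊗[O] N n)
  have hπsmul : ∀ (b : O) (z : O' ⊗[O] N n),
      (1 : a) ⊗ₜ[O'] (b • z) = γ (ζ b) • ((1 : a) ⊗ₜ[O'] z) := fun b z => by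
    rw [← IsScalarTower.algebraMap_smul O' b z, TensorProduct.tmul_smul,
      ← IsScalarTower.algebraMap_smul a (algebraMap O O' b)]
    congr 1
    exact hπφ b
  let η₀ : A →+ N n →+ Q :=
    AddMonoidHom.mk' (fun c => AddMonoidHom.mk' (fun m => γ c • ((1 : a) ⊗ₜ[O'] ((1 : O') ⊗ₜ[O] m)))
      fun x y => by simp [TensorProduct.tmul_add]) fun c d => by ext m; simp [add_smul]
  have hη₀ : ∀ (b : O) (c : A) (m : N n), η₀ (b • c) m = η₀ c (b • m) := fun b c m => by
    show γ (ζ b * c) • ((1 : a) ⊗ₜ[O'] ((1 : O') ⊗ₜ[O] m)) = γ c • ((1 : a) ⊗ₜ[O'] ((1 : O') ⊗ₜ[O] (b • m)))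
    rw [TensorProduct.tmul_smul, hπsmul, smul_smul, map_mul, mul_comm]
  let η₁ := TensorProduct.liftAddHom η₀ hη₀
  let η₂ : a →+ (A ⊗[O] N n) →+ Q :=
    AddMonoidHom.mk' (fun c => AddMonoidHom.mk' (fun g => c • η₁ g) fun x y => by rw [map_add, smul_add])
      fun c d => by ext g; exact add_smul c d (η₁ g)
  have hη₁ : ∀ (c : A) (g : A ⊗[O] N n), η₁ (c • g) = γ c • η₁ g := fun c g => by
    induction g using TensorProduct.induction_on with
    | zero => simp
    | add g h hg hh => rw [smul_add, map_add, map_add, hg, hh, smul_add]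
    | tmul x m =>
      rw [TensorProduct.smul_tmul', smul_eq_mul]
      show γ (c * x) • ((1 : a) ⊗ₜ[O'] ((1 : O') ⊗ₜ[O] m)) = γ c • (γ x • ((1 : a) ⊗ₜ[O'] ((1 : O') ⊗ₜ[O] m)))
      rw [map_mul, mul_smul]
  have hη₂ : ∀ (c : A) (d : a) (g : A ⊗[O] N n), η₂ (c • d) g = η₂ d (c • g) := fun c d g => by
    show (γ c * d) • η₁ g = d • η₁ (c • g)
    rw [hη₁, smul_smul, mul_comm]
  let η := TensorProduct.liftAddHom η₂ hη₂
  have hηsmul : ∀ (d : a) y, η (d • y) = d • η y := fun d y => by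
    induction y using TensorProduct.induction_on with
    | zero => simp
    | add y z hy hz => rw [smul_add, map_add, map_add, hy, hz, smul_add]
    | tmul c g =>
      show (d * c) • η₁ g = d • (c • η₁ g)
      rw [mul_smul]
  have hmem : ∀ n' : N', ∃ y, ι y = F (j' n') := fun n' => by
    have : j' n' ∈ Ideal.map φ (LinearMap.range (j n)) := hj'r ▸ ⟨n', rfl⟩
    refine Submodule.span_induction ?_ ⟨0, by simp⟩ ?_ ?_ this
    · rintro _ ⟨b, ⟨m, rfl⟩, rfl⟩
      refine ⟨1 ⊗ₜ (1 ⊗ₜ m), ?_⟩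
      show (1 : a) ⊗ₜ[A] ι₀ ((1 : A) ⊗ₜ[O] m) = _
      rw [hFφ, hι₀, map_one, one_mul]
      rfl
    · rintro y z - - ⟨t, ht⟩ ⟨t', ht'⟩
      exact ⟨t + t', by rw [map_add, ht, ht', map_add]⟩
    · rintro r y - ⟨t, ht⟩
      exact ⟨e (F r) • t, by rw [smul_eq_mul, map_mul, ← hmul, ht]⟩
  choose g hg using hmem
  have hg_smul : ∀ (r : O') n', g (r • n') = π r • g n' := fun r n' => hι (by
    rw [hg, map_smul, smul_eq_mul, map_mul, ← hg, hmul, show e (F r) = π r from hFe r])
  have hg_add : ∀ x y, g (x + y) = g x + g y := fun x y => hι (by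
    rw [hg, map_add, map_add, map_add, hg, hg])
  let Ψ : N' →ₗ[O'] Q :=
    { toFun := fun n' => π (↑v⁻¹) • η (g n')
      map_add' := fun x y => by rw [hg_add, map_add, smul_add]
      map_smul' := fun r x => by
        rw [hg_smul, hηsmul, RingHom.id_apply, smul_comm]
        exact IsScalarTower.algebraMap_smul a r (_ : Q) }
  let Ψa : a ⊗[O'] N' →ₗ[O'] Q :=
    TensorProduct.lift
      { toFun := fun c =>
          { toFun := fun n' => c • Ψ n'
            map_add' := fun m n => by rw [map_add, smul_add]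
            map_smul' := fun r n => by rw [map_smul, RingHom.id_apply, smul_comm] }
        map_add' := fun c e => LinearMap.ext fun n => add_smul c e (Ψ n)
        map_smul' := fun r c => LinearMap.ext fun n => smul_assoc r c (Ψ n) }
  have hΨT : ∀ t, Ψ (T t) = 1 ⊗ₜ t := by
    intro t
    induction t using TensorProduct.induction_on with
    | zero => simp
    | add s t hs ht => rw [map_add, map_add, hs, ht, TensorProduct.tmul_add]
    | tmul r m =>
      rw [show r ⊗ₜ[O] m = r • ((1 : O') ⊗ₜ[O] m) by rw [TensorProduct.smul_tmul', smul_eq_mul, mul_one],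
        map_smul, map_smul, TensorProduct.tmul_smul]
      congr 1
      show π (↑v⁻¹) • η (g (T (1 ⊗ₜ m))) = _
      have : g (T (1 ⊗ₜ m)) = π v • ((1 : a) ⊗ₜ[A] ((1 : A) ⊗ₜ[O] m)) := hι (by
        rw [hg, hT, map_mul, hFφ, ← hFe]
        show _ = ι (e (F v) • ((1 : a) ⊗ₜ[A] ((1 : A) ⊗ₜ[O] m)))
        rw [← hmul]
        congr 1
        show fc (j n m) = (1 : a) ⊗ₜ[A] ι₀ ((1 : A) ⊗ₜ[O] m)
        rw [hι₀, map_one, one_mul]
        rfl)
      rw [this, hηsmul, smul_smul, ← map_mul, Units.inv_mul, map_one, one_smul]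
      show (1 : a) • (γ 1 • ((1 : a) ⊗ₜ[O'] ((1 : O') ⊗ₜ[O] m))) = _
      rw [map_one, one_smul, one_smul]
  intro x y hxy
  have key : ∀ x, Ψa (LinearMap.baseChange a T x) = x := fun x => by
    induction x using TensorProduct.induction_on with
    | zero => simp
    | add x y hx hy => simp only [map_add, hx, hy]
    | tmul c t =>
      rw [LinearMap.baseChange_tmul]
      show c • Ψ (T t) = c ⊗ₜ t
      rw [hΨT, TensorProduct.smul_tmul', smul_eq_mul, mul_one]
  rw [← key x, ← key y, hxy]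

end GrothLib.GrFlat29
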