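import Groth.Agent.Lib.GrFlat29.Algebra
import Groth.Agent.Lib.OmegaBC.Section
import Groth.Agent.Lib.GrBC.Basic
import Groth.Agent.Lib.Goodman.Divisor
import Groth.Agent.Lib.HodgeIndex.Pullback
import Groth.Prelude.Def_FlatMod2

/-!
The graded pieces of the ideal of a section commute with base change when the lower ones are flat.
-/

set_option autoImplicit false
set_option backward.isDefEq.respectTransparency false
set_option linter.all false

universe u

open CategoryTheory CategoryTheory.Limits AlgebraicGeometry Opposite TopologicalSpace IsLocalRing TensorProduct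
open GrothLib.OmegaBC

noncomputable section

namespace GrothLib.GrFlat29

theorem flat_tensor_stalk {Z P : Scheme.{u}} (i : Z ⟶ P) (K : P.IdealSheafData)
    (hfl : FlatMod.IsFlat ((Scheme.Modules.pullback i).obj (ClSub.idealMod K))) (z : Z) (p : P) (hzp : i.base z = p)
    (ζ : P.presheaf.stalk p ⟶ Z.presheaf.stalk z)
    (hζ : Spec.map ζ ≫ P.fromSpecStalk p = Z.fromSpecStalk z ≫ i) :
    letI := ζ.hom.toAlgebra
    Module.Flat (Z.presheaf.stalk z) (Z.presheaf.stalk z ⊗[P.presheaf.stalk p] (OX.stalk p).obj (ClSub.idealMod K)) := by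
  subst hzp
  have hz : ζ = i.stalkMap z := stalk_hom_ext (hζ.trans (Scheme.SpecMap_stalkMap_fromSpecStalk (f := i)).symm)
  subst hz
  letI := (i.stalkMap z).hom.toAlgebra
  haveI : Module.Flat (Z.presheaf.stalk z)
      ((OX.stalk z).obj ((Scheme.Modules.pullback i).obj (ClSub.idealMod K))) := hfl z
  let e : _ ≃ₗ[Z.presheaf.stalk z] ((OX.stalk z).obj ((Scheme.Modules.pullback i).obj (ClSub.idealMod K)) : Type u) :=
    ((OX.pullStalkIso i z).app (ClSub.idealMod K)).symm.toLinearEquiv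
  exact Module.Flat.of_linearEquiv e

/-- The pulled back power of the ideal of a section, restricted to the section, is the power of the ideal. -/
theorem isIso_pullback_pullToComap_pow {Z Z' P P' : Scheme.{u}} (i : Z ⟶ P) [IsClosedImmersion i]
    (i' : Z' ⟶ P') [IsClosedImmersion i'] (r : P ⟶ Z) (r' : P' ⟶ Z') (g : Z' ⟶ Z) (k : P' ⟶ P)
    (H : IsPullback k r' r g) (hi : i ≫ r = 𝟙 _) (hi' : i' ≫ r' = 𝟙 _) (hk : i' ≫ k = g ≫ i)
    (hker : i'.ker = i.ker.comap k) (n : ℕ) (hflat : ∀ l < n, FlatMod.IsFlat (PrinPart.grMod i l)) :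
    IsIso ((Scheme.Modules.pullback i').map (CI20.pullToComap k (i.ker ^ n))) := by
  let α := CI20.pullToComap k (i.ker ^ n)
  haveI hI : IsIso ((Scheme.Modules.pullback i').map α) := by
    rw [OX.isIso_iff]
    intro z'
    suffices h : IsIso ((ModuleCat.extendScalars (i'.stalkMap z').hom).map
        (toStalk k (ClSub.idealMod (i.ker ^ n)) (i' z') ≫ (OX.stalk (i' z')).map α)) by
      have h2 : IsIso ((ModuleCat.extendScalars (i'.stalkMap z').hom).map ((OX.stalk (i' z')).map α)) := by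
        haveI : IsIso (toStalk k (ClSub.idealMod (i.ker ^ n)) (i' z')) := by unfold toStalk; infer_instance
        rw [Functor.map_comp] at h
        exact IsIso.of_isIso_comp_left ((ModuleCat.extendScalars (i'.stalkMap z').hom).map
          (toStalk k (ClSub.idealMod (i.ker ^ n)) (i' z'))) _
      exact (NatIso.isIso_map_iff (OX.pullStalkIso i' z') α).2 h2
    let x := i'.base z'
    let p := k.base x
    let z := g.base z'
    let γ : Z.presheaf.stalk z ⟶ Z'.presheaf.stalk z' := g.stalkMap z'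
    let φ : P.presheaf.stalk p ⟶ P'.presheaf.stalk x := k.stalkMap x
    let π : P'.presheaf.stalk x ⟶ Z'.presheaf.stalk z' := i'.stalkMap z'
    have hzp : i.base z = p := ((congr($(hk) z')).symm : _)
    obtain ⟨ζ, hζ, -⟩ := exists_stalk_hom (y := p) (Z.fromSpecStalk z ≫ i) (by
      exact (Scheme.Hom.comp_apply _ _ _).trans ((congrArg _ Scheme.fromSpecStalk_closedPoint).trans hzp))
    have hrp : r.base p = z := by
      rw [← hzp, ← Scheme.Hom.comp_apply, hi]; rfl
    obtain ⟨ρ, hρ, -⟩ := exists_stalk_hom (y := z) (P.fromSpecStalk p ≫ r) (by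
      exact (Scheme.Hom.comp_apply _ _ _).trans ((congrArg _ Scheme.fromSpecStalk_closedPoint).trans hrp))
    have hr'x : r'.base x = z' := by
      show r'.base (i'.base z') = z'
      rw [← Scheme.Hom.comp_apply, hi']; rfl
    obtain ⟨ρ', hρ', -⟩ := exists_stalk_hom (y := z') (P'.fromSpecStalk x ≫ r') (by
      exact (Scheme.Hom.comp_apply _ _ _).trans ((congrArg _ Scheme.fromSpecStalk_closedPoint).trans hr'x))
    have hπ : Spec.map π ≫ P'.fromSpecStalk x = Z'.fromSpecStalk z' ≫ i' := Scheme.SpecMap_stalkMap_fromSpecStalk (f := i')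
    have hφ : Spec.map φ ≫ P.fromSpecStalk p = P'.fromSpecStalk x ≫ k := Scheme.SpecMap_stalkMap_fromSpecStalk (f := k)
    have hγ : Spec.map γ ≫ Z.fromSpecStalk z = Z'.fromSpecStalk z' ≫ g := Scheme.SpecMap_stalkMap_fromSpecStalk (f := g)
    have hρζ : ρ ≫ ζ = 𝟙 _ := stalk_hom_ext (by
      rw [Spec.map_comp, Spec.map_id, Category.id_comp, Category.assoc, hρ, ← Category.assoc, hζ, Category.assoc, hi,
        Category.comp_id])
    have hπφ : φ ≫ π = ζ ≫ γ := stalk_hom_ext (by
      rw [Spec.map_comp, Spec.map_comp, Category.assoc, hφ, ← Category.assoc, hπ, Category.assoc, hk, Category.assoc,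
        hζ, ← Category.assoc (Spec.map γ), hγ, Category.assoc])
    have hπρ' : ρ' ≫ π = 𝟙 _ := stalk_hom_ext (by
      rw [Spec.map_comp, Spec.map_id, Category.id_comp, Category.assoc, hρ', ← Category.assoc, hπ, Category.assoc, hi',
        Category.comp_id])
    have hρφ : ρ ≫ φ = γ ≫ ρ' := stalk_hom_ext (by
      rw [Spec.map_comp, Spec.map_comp, Category.assoc, hρ, ← Category.assoc, hφ, Category.assoc, Category.assoc,
        hγ, ← Category.assoc (Spec.map ρ'), hρ', Category.assoc, H.w])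
    have hjr : LinearMap.range (sval i.ker p) = RingHom.ker ζ.hom := range_sval_ker i z p hzp ζ hζ
    obtain ⟨v, hv, hvv⟩ := exists_unit_pullι k (i.ker ^ n) x
    letI := φ.hom.toAlgebra
    letI := π.hom.toAlgebra
    let T := (toStalk k (ClSub.idealMod (i.ker ^ n)) x ≫ (OX.stalk x).map α).hom
    have hT : ∀ m, sval ((i.ker ^ n).comap k) x (T ((1 : P'.presheaf.stalk x) ⊗ₜ[P.presheaf.stalk p] m)) =
        v * φ (sval (i.ker ^ n) p m) := by
      intro m
      refine Eq.trans ?_ (hvv m)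
      show (ouni x).symm (((toStalk k (ClSub.idealMod (i.ker ^ n)) x ≫ (OX.stalk x).map α) ≫
        (OX.stalk x).map (ClSub.idealModι ((i.ker ^ n).comap k))).hom _) = _
      rw [Category.assoc, ← Functor.map_comp, show α ≫ ClSub.idealModι ((i.ker ^ n).comap k) = pullι k (i.ker ^ n)
        from kernel.lift_ι _ _ _]
    have hb : Function.Bijective (LinearMap.baseChange (Z'.presheaf.stalk z') T) := by
      refine GrFlat29.bijective_baseChange_pow ρ.hom ζ.hom γ.hom φ.hom π.hom
        (fun c => ConcreteCategory.congr_hom hρζ c) (fun b => ConcreteCategory.congr_hom hπφ b)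
        (Goodman.st i.ker p) hjr n (fun l => (OX.stalk p).obj (ClSub.idealMod (i.ker ^ l)))
        (fun l => sval (i.ker ^ l) p) (fun l => sval_injective _ _) (fun l => Goodman.st_pow i.ker p l)
        (fun l hl => flat_tensor_stalk i (i.ker ^ l) (hflat l hl) z p hzp ζ hζ)
        (sval ((i.ker ^ n).comap k) x) (sval_injective _ _) (HodgeIndex.st_comap k (i.ker ^ n) x) v hv ?_ T hT
      intro R _ _ fc inl e hloc hf1 he hf2
      let E := CommRingCat.of R
      let eC : E ⟶ Z'.presheaf.stalk z' := CommRingCat.ofHom e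
      let inlC : Z'.presheaf.stalk z' ⟶ E := CommRingCat.ofHom inl
      let fcC : P.presheaf.stalk p ⟶ E := CommRingCat.ofHom fc
      have hcomm : (Spec.map fcC ≫ P.fromSpecStalk p) ≫ r = (Spec.map inlC ≫ Z'.fromSpecStalk z') ≫ g := by
        rw [Category.assoc, ← hρ, ← Category.assoc, ← Spec.map_comp, Category.assoc, ← hγ, ← Category.assoc,
          ← Spec.map_comp, show ρ ≫ fcC = γ ≫ inlC from CommRingCat.hom_ext (RingHom.ext hf2)]
      let w := H.lift (Spec.map fcC ≫ P.fromSpecStalk p) (Spec.map inlC ≫ Z'.fromSpecStalk z') hcomm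
      have hinle : inlC ≫ eC = 𝟙 _ := CommRingCat.hom_ext (RingHom.ext he)
      have hfe : fcC ≫ eC = ζ ≫ γ := CommRingCat.hom_ext (RingHom.ext hf1)
      have hew : Spec.map eC ≫ w = Z'.fromSpecStalk z' ≫ i' := H.hom_ext (by
        rw [Category.assoc, H.lift_fst, ← Category.assoc, ← Spec.map_comp, hfe, Category.assoc, hk, Spec.map_comp,
          Category.assoc, hζ, ← Category.assoc, hγ, Category.assoc]) (by
        rw [Category.assoc, H.lift_snd, ← Category.assoc, ← Spec.map_comp, hinle, Spec.map_id, Category.id_comp,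
          Category.assoc, hi', Category.comp_id])
      have hwx : w.base (closedPoint E) = x := by
        have hloc : IsLocalHom eC.hom := hloc
        have hcp : (Spec.map eC).base (closedPoint (Z'.presheaf.stalk z')) = closedPoint E :=
          IsLocalRing.comap_closedPoint eC.hom
        exact (congrArg w.base hcp).symm.trans ((congr($(hew) (closedPoint (Z'.presheaf.stalk z')))).trans
          (congrArg i'.base Scheme.fromSpecStalk_closedPoint))
      obtain ⟨F, hF, -⟩ := exists_stalk_hom (y := x) w hwx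
      have hF1 : φ ≫ F = fcC := stalk_hom_ext (by
        rw [Spec.map_comp, Category.assoc, hφ, ← Category.assoc, hF, H.lift_fst])
      have hF2 : F ≫ eC = π := stalk_hom_ext (by
        rw [Spec.map_comp, Category.assoc, hF, hew, hπ])
      exact ⟨F.hom, fun b => ConcreteCategory.congr_hom hF1 b, fun b => ConcreteCategory.congr_hom hF2 b⟩
    rw [ConcreteCategory.isIso_iff_bijective]
    exact hb
  exact hI


open GrothLib.GrBC in
/-- The graded pieces of a section commute with base change when the lower ones are flat. -/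
theorem isIso_grMap_flat {X Y X' Y' : Scheme.{u}} (g : X ⟶ Y) (f : Y ⟶ X) [IsClosedImmersion f] (hf : f ≫ g = 𝟙 Y)
    (u : Y' ⟶ Y) (v : X' ⟶ X) (g' : X' ⟶ Y') (hsq : IsPullback v g' g u) (f' : Y' ⟶ X') [IsClosedImmersion f']
    (hf' : f' ≫ g' = 𝟙 Y') (hf'v : f' ≫ v = u ≫ f) (hker : f'.ker = f.ker.comap v) (n : ℕ)
    (hflat : ∀ l < n, FlatMod.IsFlat (PrinPart.grMod f l))
    (φ : (Scheme.Modules.pullback u).obj (PrinPart.grMod f n) ⟶ PrinPart.grMod f' n)
    (hφ : PrinPart.IsGrMap f' f v u n φ) : IsIso φ := by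
  have hK : (f.ker ^ n).comap v = f'.ker ^ n := by
    rw [GrothLib.FSchSys.comap_pow, hker]
  obtain ⟨θ, hθiso, hθ⟩ : ∃ θ : (Scheme.Modules.pullback v).obj (ClSub.idealMod (f.ker ^ n)) ⟶
      ClSub.idealMod (f'.ker ^ n), IsIso ((Scheme.Modules.pullback f').map θ) ∧
        θ ≫ ClSub.idealModι (f'.ker ^ n) = pullι v (f.ker ^ n) := by
    rw [← hK]
    exact ⟨CI20.pullToComap v _, isIso_pullback_pullToComap_pow f f' g g' u v hsq hf hf' hf'v hker n hflat,
      kernel.lift_ι _ _ _⟩
  have hw : u ≫ f = f' ≫ v := hf'v.symm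
  let M := ClSub.idealMod (f.ker ^ n)
  let φ' : (Scheme.Modules.pullback u).obj (PrinPart.grMod f n) ⟶ PrinPart.grMod f' n :=
    (Scheme.Modules.pullbackComp u f).hom.app M ≫ (Scheme.Modules.pullbackCongr hw).hom.app M ≫
      (Scheme.Modules.pullbackComp f' v).inv.app M ≫ (Scheme.Modules.pullback f').map θ
  have hiso : IsIso φ' := inferInstance
  suffices φ = φ' by rw [this]; exact hiso
  refine ((Scheme.Modules.pullbackPushforwardAdjunction u).homEquiv _ _).injective
    (PPGen.hom_ext_pullSect f _ _ fun U t => ?_)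
  refine (congr($((Scheme.Modules.pullbackPushforwardAdjunction u).homEquiv_unit _ _ φ).app (f ⁻¹ᵁ U)
    (OmegaSh.pullSect f M U t))).trans (Eq.trans ?_
    (congr($((Scheme.Modules.pullbackPushforwardAdjunction u).homEquiv_unit _ _ φ').app (f ⁻¹ᵁ U)
    (OmegaSh.pullSect f M U t))).symm)
  show φ.app (u ⁻¹ᵁ (f ⁻¹ᵁ U)) (OmegaSh.pullSect u _ _ (PrinPart.grSect f n U t)) =
    φ'.app (u ⁻¹ᵁ (f ⁻¹ᵁ U)) (OmegaSh.pullSect u _ _ (OmegaSh.pullSect f M U t))
  have hle : u ⁻¹ᵁ (f ⁻¹ᵁ U) ≤ f' ⁻¹ᵁ (v ⁻¹ᵁ U) := by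
    rw [← Scheme.Hom.comp_preimage, hw, Scheme.Hom.comp_preimage]
  have hs : OmegaSh.idealSect (f'.ker ^ n) (v ⁻¹ᵁ U) (θ.app (v ⁻¹ᵁ U) (OmegaSh.pullSect v M U t)) =
      v.app U (OmegaSh.idealSect (f.ker ^ n) U t) := by
    show (θ ≫ ClSub.idealModι (f'.ker ^ n)).app (v ⁻¹ᵁ U) (OmegaSh.pullSect v M U t) = _
    rw [hθ]
    refine (congrArg ((ParaLocal.pullUnit v).hom.app (v ⁻¹ᵁ U))
      (pullback_map_pullSect v (ClSub.idealModι (f.ker ^ n)) U t)).trans ?_
    exact pullUnit_pullSect v U _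
  have hl := hφ.2 U t _ hs (u ⁻¹ᵁ (f ⁻¹ᵁ U)) le_rfl hle
  rw [show (homOfLE (le_refl (u ⁻¹ᵁ (f ⁻¹ᵁ U)))).op = 𝟙 _ from rfl, CategoryTheory.Functor.map_id] at hl
  refine hl.trans ?_
  show _ = ((Scheme.Modules.pullback f').map θ).app _ (((Scheme.Modules.pullbackComp f' v).inv.app M).app _
    (((Scheme.Modules.pullbackCongr hw).hom.app M).app _ (((Scheme.Modules.pullbackComp u f).hom.app M).app _
      (OmegaSh.pullSect u _ _ (OmegaSh.pullSect f M U t)))))
  rw [pullbackComp_hom_pullSect u f M U t]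
  erw [pullbackCongr_pullSect hw M U t hle]
  have nat : ∀ {A B : Y'.Modules} (c : A ⟶ B) (x : Γ(A, f' ⁻¹ᵁ (v ⁻¹ᵁ U))),
      c.app (u ⁻¹ᵁ (f ⁻¹ᵁ U)) (A.presheaf.map (homOfLE hle).op x) =
        B.presheaf.map (homOfLE hle).op (c.app (f' ⁻¹ᵁ (v ⁻¹ᵁ U)) x) :=
    fun c x => congr($((Scheme.Modules.Hom.mapPresheaf c).naturality (homOfLE hle).op) x)
  erw [nat ((Scheme.Modules.pullbackComp f' v).inv.app M) (OmegaSh.pullSect (f' ≫ v) M U t)]
  erw [nat ((Scheme.Modules.pullback f').map θ)]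
  refine congrArg _ ?_
  erw [pullbackComp_inv_pullSect f' v M U t]
  exact (pullback_map_pullSect f' θ (v ⁻¹ᵁ U) (OmegaSh.pullSect v M U t)).symm



end GrothLib.GrFlat29
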